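import Cfsg.Agent.Lib.Spor.TC.Signed

/-!
An excluded extension of the centralizer, case 0 0 2: tables found by a computer search.
-/

set_option autoImplicit false
set_option maxRecDepth 100000

namespace CfsgLib.Spor.HSType.Cert.H002

open CfsgLib.Spor.TC

def edgeTbl : Tbl :=
  (.bin (.bin (.tip 0x140000d200008000142000120000080001300003900012000130000000001280000e000006000110000c7000100001130000f0001000000e0000f20000e0000e4000000000e60000c0000d30000c0000720000b0000c10000a0000b3000090000a30000800009000004000082000070000120000600007100005000063000040000500000100004200001000015000030000000000200003000000000004000000000020000100002000000000010) (.tip 0x10000000000300001a0001500013a0002300012a000240002440003500024a000350003540000e000358000240003120003200024a000330000ea000340000fa0002000010a0002100011a000220000ca0002600022a000250000da0002b00014a00034000200000330003420003200033800031000323000300003100002f0003020002e0002f80002d0002e30002c0002d00002a0002c2000280002140002b0002520002b000224000070002b4)) (.bin (.tip 0x2a000079000290002a0000060002980002800007700027000280000060002760002600014500025000262000250000840000400025400013000038000240000e80002300024600023000150000020002380002200007400021000227000200002130001f0002050001e0001f20001d0001e40001c0001d70001b0001c30001a0001b4000190001a900018000193000170001800001600017000015000162000150000180000100015800004000085)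 .none))

def nodeTbl : Tbl :=
  (.bin (.tip 0x1e20001d40001c70001b30001a40001990001830001700001600001520000180000820001200000080001030000f00000e20000060000c30000b10000a3000093000080000042000061000053000040000012000020000010000000000000) (.tip 0xe80003320003280003130003000002f20002e80002d30002c00002a20000740002900000680002700000660002520000440002360000280002170002030001f5))

def rowTbl : Tbl :=
  .none

/-- The relators. -/
def rels : List (List ℕ) := [
  [0, 0, 0, 0],
  [2, 2, 2, 2, 2, 2, 2],
  [4, 4, 4],
  [4, 2, 5, 3, 3],
  [4, 0, 5, 1],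
  [0, 2, 0, 3, 1, 2, 1, 3],
  [0, 2, 2, 0, 3, 3, 1, 2, 2, 1, 3, 3],
  [2, 0, 3, 2, 2, 0, 3, 3, 2, 1, 3, 2, 2, 1, 3, 3],
  [2, 2, 2, 0, 3, 3, 3, 2, 2, 1, 3, 3, 2, 2, 1, 3, 3, 2, 1, 3, 2, 1, 3, 2, 1, 3, 1],
  [6, 4, 7, 4],
  [6, 0, 7, 0],
  [6, 2, 0, 3, 7, 2, 2, 1, 3, 3],
  [6, 6],
  [2, 6, 2, 6, 2, 6],
  [8, 4, 9, 5],
  [8, 0, 9, 0],
  [8, 8],
  [8, 6, 8, 6, 1, 1],
  [8, 2, 0, 0, 3, 9, 4, 3, 7, 4, 2, 5, 3, 7, 4, 2],
  [8, 3, 5, 6, 2, 9, 2, 2, 1, 3, 3, 2, 2, 1, 3, 3],
  [8, 2, 0, 3, 8, 2, 0, 3, 8, 2, 0, 3, 5, 7]]

/-- The generators of the subgroup. -/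
def subs : List (List ℕ) := [[2], [4]]

/-- The certificate. -/
noncomputable def cert : Cert :=
  ⟨10, rels, subs, edgeTbl.get 44, nodeTbl.get 24, rowTbl.get 20⟩

/-- The word traced into the subgroup. -/
def target : List ℕ := [0, 0]

end CfsgLib.Spor.HSType.Cert.H002
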