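import Cfsg.Agent.Lib.Spor.HSType.Cert.H002.Data

/-!
Checks of a part of the derivation.
-/

set_option autoImplicit false

namespace CfsgLib.Spor.HSType.Cert.H002

open CfsgLib.Spor.TC

def scodes0 : List ℕ := [
  0x1,
  0x1,
  0x10000100003,
  0x10000200003,
  0x1,
  0x2000040000a00004000010000100002,
  0x1000080000200003000010000500002,
  0x1,
  0x1,
  0x1,
  0x1,
  0x100005000020001000012000140001600006000010000600002,
  0x1,
  0x1,
  0x1,
  0x1,
  0x1,
  0x1800001000050000500002000100001a0001c0001e000200002200008000010000700002,
  0x1,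
  0x1,
  0x27000080002800002000010000a00002,
  0x1,
  0x1,
  0x1,
  0x2400018000010000500005000280002c0002e0003000005000010000c00002,
  0x2800002000010000d00002,
  0x1,
  0x1,
  0xc000360003800003000010001000002,
  0x3600002000010001100002,
  0x1,
  0x250002400018000100001a0003e00004000020000200002,
  0x190000f0000d0001000003000020000400002,
  0x1,
  0x4400002000020001100002,
  0x1,
  0x1,
  0x1,
  0x1,
  0x1,
  0x1,
  0x1,
  0x1,
  0x1,
  0x1,
  0x1,
  0x1,
  0x1,
  0x1800044000480004a0004c0004e00050000520005400056000580005a0005c0005e000600000f000020001300002,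
  0x1,
  0x43000040006400002000030001000002,
  0x1,
  0x340000b00009000640006800003000030001200002,
  0x3900002000040001100002,
  0x1,
  0x410006e00002000050000300002,
  0x1,
  0x3d000190006e0007200003000050000400002,
  0x1,
  0x1,
  0x15000760007800003000070000b00002,
  0x1,
  0x1,
  0x150007c0007e00003000070001000002,
  0x1,
  0x620008200002000080000300002,
  0x6d0000f000170008200002000080000400002,
  0x60000620007900002000080000a00002,
  0x1,
  0x1,
  0x1,
  0x1,
  0x1,
  0x1,
  0x1,
  0x1,
  0x1,
  0x5e000870007a0007f0008a0008c0008e00090000920009400096000980009a0000b000080001500002,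
  0x3d000410001a0006f0008500005000090000400002,
  0x3f0009d0008600004,
  0x830009e0007300004,
  0x260009f00072000a200004,
  0x32000a30005f00004,
  0x30000a50005d00004,
  0x2e000a70009b00004,
  0x2c000a90009900004,
  0x6a000ab0009700004,
  0x96000ae00004,
  0x1,
  0xb100029000b2000020000f0000f00002,
  0x6a000b2000020000f0001100002,
  0xb5000b3000b600004,
  0x3c0000600002000170007f0008a0008c0008e000900009200094000af000b7000670000f000130001500002,
  0x37000b90006600004,
  0x45000bc0006c00004,
  0xb000be00004]

set_option maxRecDepth 100000 in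
theorem steps0 : cert.SStepsOK 0 96 :=
  Cert.SStepsOK.of_check _ (codes := scodes0) (by decide +kernel)

end CfsgLib.Spor.HSType.Cert.H002
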